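import Groth.Agent.S9604
import Groth.Agent.AdicLim.Noetherian
import Groth.Agent.Hensel.Idempotent
import Mathlib.RingTheory.Spectrum.Maximal.Localization

/-!
Finite algebras over complete Noetherian local rings are products of complete local rings.
-/

universe u

open IsLocalRing

namespace Groth.Agent.FinComplete

variable (R : Type u) [CommRing R] [IsLocalRing R] (S : Type u) [CommRing S] [Algebra R S]

theorem map_le_maximal [Algebra.IsIntegral R S] (M : Ideal S) [M.IsMaximal] :
    (maximalIdeal R).map (algebraMap R S) ≤ M := by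
  rw [Ideal.map_le_iff_le_comap]
  exact (IsLocalRing.eq_maximalIdeal
    (Ideal.isMaximal_comap_of_isIntegral_of_isMaximal (R := R) M)).ge

theorem isMaximal_of_map_le [Algebra.IsIntegral R S] (P : Ideal S) [P.IsPrime]
    (h : (maximalIdeal R).map (algebraMap R S) ≤ P) : P.IsMaximal := by
  refine Ideal.isMaximal_of_isIntegral_of_isMaximal_comap (R := R) P ?_
  have : P.comap (algebraMap R S) = maximalIdeal R :=
    le_antisymm (IsLocalRing.le_maximalIdeal (Ideal.IsPrime.ne_top inferInstance))
      (Ideal.map_le_iff_le_comap.1 h)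
  rw [this]
  infer_instance

theorem finite_maximalSpectrum [IsNoetherianRing R] [Module.Finite R S] :
    Finite (MaximalSpectrum S) := by
  haveI : IsNoetherianRing S := IsNoetherianRing.of_finite R S
  have hmin : ∀ M : MaximalSpectrum S,
      M.asIdeal ∈ ((maximalIdeal R).map (algebraMap R S)).minimalPrimes := fun M => by
    haveI := M.isMaximal
    refine ⟨⟨inferInstance, map_le_maximal R S _⟩, fun P ⟨hP, hle⟩ hPM => ?_⟩
    haveI := hP
    exact ((isMaximal_of_map_le R S P hle).eq_of_le (Ideal.IsMaximal.ne_top inferInstance) hPM).ge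
  haveI := (Ideal.finite_minimalPrimes_of_isNoetherianRing S
    ((maximalIdeal R).map (algebraMap R S))).to_subtype
  refine Finite.of_injective (fun M => (⟨M.asIdeal, hmin M⟩ :
    ((maximalIdeal R).map (algebraMap R S)).minimalPrimes)) fun M N h => ?_
  exact MaximalSpectrum.ext (congrArg Subtype.val h)

theorem jacobson_cofinal [IsNoetherianRing R] [Module.Finite R S] :
    (maximalIdeal R).map (algebraMap R S) ≤ (⊥ : Ideal S).jacobson ∧
      ∃ d : ℕ, 0 < d ∧ (⊥ : Ideal S).jacobson ^ d ≤ (maximalIdeal R).map (algebraMap R S) := by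
  haveI : IsNoetherianRing S := IsNoetherianRing.of_finite R S
  refine ⟨le_sInf fun M hM => ?_, ?_⟩
  · haveI := hM.2
    exact map_le_maximal R S M
  · have hrad : (⊥ : Ideal S).jacobson ≤ ((maximalIdeal R).map (algebraMap R S)).radical := by
      rw [Ideal.radical_eq_sInf]
      refine le_sInf fun P ⟨hle, hP⟩ => ?_
      haveI := hP
      exact sInf_le ⟨bot_le, isMaximal_of_map_le R S P hle⟩
    obtain ⟨d, hd⟩ := Ideal.exists_pow_le_of_le_radical_of_fg hrad (IsNoetherian.noetherian _)
    exact ⟨d + 1, d.succ_pos, (Ideal.pow_le_pow_right d.le_succ).trans hd⟩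

theorem isAdicComplete_map [IsNoetherianRing R] [IsAdicComplete (maximalIdeal R) R] [Module.Finite R S] :
    IsAdicComplete ((maximalIdeal R).map (algebraMap R S)) S :=
  (IsAdicComplete.map_algebraMap_iff (maximalIdeal R) S).2 (AdicLim.isAdicComplete_of_finite (maximalIdeal R) S)

theorem isAdicComplete_jacobson [IsNoetherianRing R] [IsAdicComplete (maximalIdeal R) R] [Module.Finite R S] :
    IsAdicComplete (⊥ : Ideal S).jacobson S := by
  obtain ⟨h, d, hd, hd'⟩ := jacobson_cofinal R S
  exact S9604.complete_of_cofinal _ _ 1 d one_pos hd (by rwa [pow_one]) hd' S (isAdicComplete_map R S)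

variable {R S}

theorem exists_idempotent [IsNoetherianRing R] [IsAdicComplete (maximalIdeal R) R] [Module.Finite R S]
    (M : MaximalSpectrum S) : ∃ e : S, IsIdempotentElem e ∧ e ∉ M.asIdeal ∧
      ∀ N : MaximalSpectrum S, N ≠ M → e ∈ N.asIdeal := by
  classical
  haveI := finite_maximalSpectrum R S
  haveI := Fintype.ofFinite (MaximalSpectrum S)
  haveI := M.isMaximal
  let T := (Finset.univ.erase M).inf MaximalSpectrum.asIdeal
  have hT : ¬ T ≤ M.asIdeal := by
    intro h
    obtain ⟨N, hN, hle⟩ := (Ideal.IsPrime.inf_le' inferInstance).1 h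
    exact (Finset.mem_erase.1 hN).1 (MaximalSpectrum.ext
      (N.isMaximal.eq_of_le (Ideal.IsPrime.ne_top inferInstance) hle))
  have htop : T ⊔ M.asIdeal = ⊤ := by
    by_contra hne
    exact hT (le_trans le_sup_left (M.isMaximal.eq_of_le hne le_sup_right).ge)
  obtain ⟨a, ha, b, hb, hab⟩ := Submodule.mem_sup.1 (htop ▸ Submodule.mem_top : (1 : S) ∈ T ⊔ M.asIdeal)
  have haN : ∀ N : MaximalSpectrum S, N ≠ M → a ∈ N.asIdeal := fun N hN =>
    (Finset.inf_le (Finset.mem_erase.2 ⟨hN, Finset.mem_univ N⟩) : T ≤ N.asIdeal) ha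
  have hJ : a * a - a ∈ (⊥ : Ideal S).jacobson := by
    refine Submodule.mem_sInf.2 fun N hN => ?_
    haveI := hN.2
    by_cases h : (⟨N, hN.2⟩ : MaximalSpectrum S) = M
    · subst h
      have : a * a - a = -(a * b) := by linear_combination a * hab
      rw [this]
      exact neg_mem (Ideal.mul_mem_left N _ hb)
    · have := haN _ h
      exact sub_mem (Ideal.mul_mem_left N _ this) this
  haveI := isAdicComplete_jacobson R S
  haveI : HenselianRing S (⊥ : Ideal S).jacobson := inferInstance
  obtain ⟨e, he, hea⟩ := Hensel.exists_idempotent_lift (A := S) (I := (⊥ : Ideal S).jacobson) a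
    (by rwa [Algebra.algebraMap_self, Ideal.map_id])
  rw [Algebra.algebraMap_self, Ideal.map_id] at hea
  have hmem : ∀ N : MaximalSpectrum S, e - a ∈ N.asIdeal := fun N =>
    (sInf_le ⟨bot_le, N.isMaximal⟩ : (⊥ : Ideal S).jacobson ≤ N.asIdeal) hea
  refine ⟨e, he, fun heM => ?_, fun N hN => by simpa using add_mem (hmem N) (haN N hN)⟩
  refine M.isMaximal.ne_top ((Ideal.eq_top_iff_one _).2 ?_)
  have := add_mem (sub_mem heM (hmem M)) hb
  rwa [sub_sub_cancel, hab] at this

variable (R S)

theorem bijective_pi [IsNoetherianRing R] [IsAdicComplete (maximalIdeal R) R] [Module.Finite R S] :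
    Function.Bijective (algebraMap S ((m : MaximalSpectrum S) → Localization.AtPrime m.asIdeal)) := by
  classical
  haveI := finite_maximalSpectrum R S
  haveI := Fintype.ofFinite (MaximalSpectrum S)
  refine ⟨fun x y h => MaximalSpectrum.toPiLocalization_injective S h, fun f => ?_⟩
  choose e he heM heN using fun M : MaximalSpectrum S => exists_idempotent (R := R) M
  choose a s hs using fun M => IsLocalization.exists_mk'_eq M.asIdeal.primeCompl (f M)
  have hu : ∀ M, IsUnit (e M * (s M : S) + (1 - e M)) := fun M => by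
    by_contra h
    obtain ⟨N, hN, hmem⟩ := exists_max_ideal_of_mem_nonunits h
    by_cases hNM : (⟨N, hN⟩ : MaximalSpectrum S) = M
    · subst hNM
      have h1e : 1 - e ⟨N, hN⟩ ∈ N :=
        (hN.isPrime.mem_or_mem (x := e ⟨N, hN⟩) (y := 1 - e ⟨N, hN⟩)
          (by rw [mul_sub, mul_one, (he _).eq, sub_self]; exact N.zero_mem)).resolve_left (heM ⟨N, hN⟩)
      have h2 := sub_mem hmem h1e
      rw [add_sub_cancel_right] at h2
      exact (hN.isPrime.mem_or_mem h2).elim (heM ⟨N, hN⟩) (s ⟨N, hN⟩).2
    · have h2 := heN M _ hNM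
      have h3 := sub_mem hmem (Ideal.mul_mem_right (I := N) (s M : S) h2)
      rw [add_sub_cancel_left] at h3
      exact hN.ne_top ((Ideal.eq_top_iff_one _).2 (by simpa using add_mem h3 h2))
  refine ⟨∑ M, e M * (a M * ↑((hu M).unit⁻¹)), funext fun M => ?_⟩
  rw [Pi.algebraMap_apply, map_sum, Finset.sum_eq_single M]
  · have h1 : algebraMap S (Localization.AtPrime M.asIdeal) (e M) = 1 := by
      refine (IsIdempotentElem.iff_eq_one_of_isUnit
        (IsLocalization.map_units _ (⟨e M, heM M⟩ : M.asIdeal.primeCompl))).1 ((he M).map _)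
    rw [map_mul, h1, one_mul, ← hs M, IsLocalization.eq_mk'_iff_mul_eq, ← map_mul]
    have h2 : algebraMap S (Localization.AtPrime M.asIdeal) (s M : S) =
        algebraMap S _ (e M * (s M : S) + (1 - e M)) := by
      simp [h1]
    rw [map_mul, h2, ← map_mul, mul_assoc]
    congr 1
    rw [IsUnit.val_inv_mul, mul_one]
  · intro N _ hNM
    have hNe : (1 - e N) ∈ M.asIdeal.primeCompl := fun h =>
      M.isMaximal.ne_top ((Ideal.eq_top_iff_one _).2 (by simpa using add_mem h (heN N M (Ne.symm hNM))))
    have h1 : algebraMap S (Localization.AtPrime M.asIdeal) (e N) = 0 := by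
      refine (IsLocalization.map_eq_zero_iff M.asIdeal.primeCompl _ _).2 ⟨⟨_, hNe⟩, ?_⟩
      show (1 - e N) * e N = 0
      rw [sub_mul, one_mul, (he N).eq, sub_self]
    rw [map_mul, h1, zero_mul]
  · exact fun h => (h (Finset.mem_univ M)).elim

theorem finite_localization [IsNoetherianRing R] [IsAdicComplete (maximalIdeal R) R] [Module.Finite R S]
    (M : MaximalSpectrum S) : Module.Finite R (Localization.AtPrime M.asIdeal) := by
  classical
  have hsurj : Function.Surjective (IsScalarTower.toAlgHom R S (Localization.AtPrime M.asIdeal)) := fun y => by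
    obtain ⟨x, hx⟩ := (bijective_pi R S).2 (Pi.single M y)
    refine ⟨x, ?_⟩
    have := congrFun hx M
    rwa [Pi.single_eq_same] at this
  exact Module.Finite.of_surjective (IsScalarTower.toAlgHom R S (Localization.AtPrime M.asIdeal)).toLinearMap hsurj

theorem isAdicComplete_of_isLocalRing [IsNoetherianRing R] [IsAdicComplete (maximalIdeal R) R]
    [Module.Finite R S] [IsLocalRing S] : IsAdicComplete (maximalIdeal S) S := by
  have h := isAdicComplete_jacobson R S
  rwa [IsLocalRing.jacobson_eq_maximalIdeal ⊥ bot_ne_top] at h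

theorem localization_complete [IsNoetherianRing R] [IsAdicComplete (maximalIdeal R) R] [Module.Finite R S]
    (M : MaximalSpectrum S) : IsNoetherianRing (Localization.AtPrime M.asIdeal) ∧
      IsAdicComplete (maximalIdeal (Localization.AtPrime M.asIdeal)) (Localization.AtPrime M.asIdeal) := by
  haveI := finite_localization R S M
  exact ⟨IsNoetherianRing.of_finite R _, isAdicComplete_of_isLocalRing R _⟩

theorem isLocalRing_of_isDomain [IsNoetherianRing R] [IsAdicComplete (maximalIdeal R) R]
    [Module.Finite R S] [IsDomain S] : IsLocalRing S := by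
  obtain ⟨M, hM⟩ := Ideal.exists_maximal S
  refine IsLocalRing.of_unique_max_ideal ⟨M, hM, fun N hN => ?_⟩
  by_contra hne
  obtain ⟨e, he, heM, heN⟩ := exists_idempotent (R := R) (⟨M, hM⟩ : MaximalSpectrum S)
  rcases IsIdempotentElem.iff_eq_zero_or_one.1 he with rfl | rfl
  · exact heM M.zero_mem
  · exact hN.ne_top ((Ideal.eq_top_iff_one _).2
      (heN ⟨N, hN⟩ fun h => hne (congrArg MaximalSpectrum.asIdeal h)))

end Groth.Agent.FinComplete
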